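import Groth.Agent.L27.HenselProperGen
import Groth.Agent.L27.ProperDescent.Closed
import Groth.Agent.L27.TrivFibres.Clopen
import Groth.Prelude.Def_Pi1X
import Mathlib.AlgebraicGeometry.ZariskisMainTheorem

/-! A component of the closed fibre mapping isomorphically lifts over a henselian ring. -/

set_option autoImplicit false
set_option linter.style.haveILetI false
set_option backward.isDefEq.respectTransparency false
set_option backward.isDefEq.respectTransparency.types false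

universe u

open CategoryTheory CategoryTheory.Limits AlgebraicGeometry TopologicalSpace

namespace Groth.L27.SteinComp

variable {A : Type u} [CommRing A] [HenselianLocalRing A]

theorem etale_etaleLocus {X Y : Scheme.{u}} (g : X ⟶ Y) : Etale ((Pi1X.etaleLocus g).ι ≫ g) := by
  refine IsZariskiLocalAtSource.of_iSup_eq_top
    (fun U : {U : X.Opens // Etale (U.ι ≫ g)} => (Pi1X.etaleLocus g).ι ⁻¹ᵁ U.1) ?_ fun U => ?_
  · refine eq_top_iff.2 fun x _ => ?_
    obtain ⟨U, hU, hx⟩ := TopologicalSpace.Opens.mem_sSup.1 x.2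
    exact TopologicalSpace.Opens.mem_iSup.2 ⟨⟨U, hU⟩, hx⟩
  · let V := (Pi1X.etaleLocus g).ι ⁻¹ᵁ U.1
    show Etale (V.ι ≫ (Pi1X.etaleLocus g).ι ≫ g)
    have hr : Set.range (V.ι ≫ (Pi1X.etaleLocus g).ι) ⊆ Set.range U.1.ι := by
      rintro _ ⟨v, rfl⟩
      rw [Scheme.Opens.range_ι]
      exact v.2
    rw [← Category.assoc, ← IsOpenImmersion.lift_fac U.1.ι _ hr, Category.assoc]
    haveI : IsOpenImmersion (IsOpenImmersion.lift U.1.ι _ hr ≫ U.1.ι) := by
      rw [IsOpenImmersion.lift_fac]; infer_instance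
    haveI : IsOpenImmersion (IsOpenImmersion.lift U.1.ι _ hr) := IsOpenImmersion.of_comp _ U.1.ι
    haveI := U.2
    infer_instance

/-- the lifted component -/
theorem exists_clopen_lift {Z' Z X' X : Scheme.{u}} (z : Z ⟶ Spec (CommRingCat.of A)) [IsProper z] (h : Z' ⟶ Z) [IsProper h]
    (g : X' ⟶ X) {q' : Z' ⟶ X'} {q : Z ⟶ X} (sqg : IsPullback q' h g q)
    {K' : Scheme.{u}} {i' : K' ⟶ Z'} {hK : K' ⟶ pullback z (Spec.map (CommRingCat.ofHom (IsLocalRing.residue A)))}
    (sqK : IsPullback i' hK h (pullback.fst z (Spec.map (CommRingCat.ofHom (IsLocalRing.residue A)))))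
    {D : Scheme.{u}} (d : D ⟶ K') [IsOpenImmersion d] [IsClosedImmersion d] [IsIso (d ≫ hK)]
    (het : ∀ x : D, q' (i' (d x)) ∈ Pi1X.etaleLocus g) :
    ∃ W : Z'.Opens, IsClosed (W : Set Z') ∧ IsIso (W.ι ≫ h) ∧ ∀ x : D, i' (d x) ∈ W := by
  let r := Spec.map (CommRingCat.ofHom (IsLocalRing.residue A))
  let p : Z' ⟶ Spec (CommRingCat.of A) := h ≫ z
  have sqP : IsPullback i' (hK ≫ pullback.snd z r) p r := sqK.paste_vert (IsPullback.of_hasPullback z r)
  let V₀ : Set ↥(pullback p r) := sqP.isoPullback.hom '' Set.range d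
  have hV₀ : IsClopen V₀ :=
    ⟨sqP.isoPullback.hom.homeomorph.isClosed_image.2 d.isClosedEmbedding.isClosed_range,
      sqP.isoPullback.hom.homeomorph.isOpen_image.2 d.isOpenEmbedding.isOpen_range⟩
  obtain ⟨U, hU, hUV⟩ : ∃ U : Set Z', IsClopen U ∧ pullback.fst p r ⁻¹' U = V₀ :=
    Groth.L27.HenselProper.exists_clopen_general (IsLocalRing.maximalIdeal A) p V₀ hV₀
  let W : Z'.Opens := ⟨U, hU.2⟩
  have hWD : ∀ k : K', i' k ∈ W ↔ k ∈ Set.range d := by
    intro k
    have h1 : pullback.fst p r (sqP.isoPullback.hom k) = i' k := by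
      rw [← Scheme.Hom.comp_apply, sqP.isoPullback_hom_fst]
    rw [← h1]
    show sqP.isoPullback.hom k ∈ pullback.fst p r ⁻¹' U ↔ _
    rw [hUV]
    exact sqP.isoPullback.hom.homeomorph.injective.mem_set_image
  refine ⟨W, hU.1, ?_, fun x => (hWD _).2 ⟨x, rfl⟩⟩
  haveI : IsClosedImmersion W.ι := IsClosedImmersion.of_isPreimmersion _ (by
    rw [Scheme.Opens.range_ι]; exact hU.1)
  let E := Pi1X.etaleLocus g
  have hWE : W ≤ q' ⁻¹ᵁ E := by
    intro w hw
    obtain ⟨y, hwy, hy⟩ := Groth.L27.TrivFibres.exists_specializes_closedPoint (W.ι ≫ p) (⟨w, hw⟩ : W.toScheme)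
    have hy' : p y.1 = IsLocalRing.closedPoint A := hy
    obtain ⟨t, ht⟩ : y.1 ∈ Set.range i' := by
      have : y.1 ∈ Set.range (pullback.fst p r) := by
        rw [Scheme.Pullback.range_fst, Set.mem_preimage, hy']
        exact ⟨IsLocalRing.closedPoint _, IsLocalRing.PrimeSpectrum.comap_residue A _⟩
      obtain ⟨t, ht⟩ := this
      refine ⟨sqP.isoPullback.inv t, ?_⟩
      rw [← Scheme.Hom.comp_apply, sqP.isoPullback_inv_fst, ht]
    obtain ⟨x, rfl⟩ := (hWD t).1 (by rw [ht]; exact y.2)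
    have hyE : q' y.1 ∈ E := by rw [← ht]; exact het x
    exact ((hwy.map W.ι.continuous).map q'.continuous).mem_open E.2 hyE
  haveI : Etale ((q' ⁻¹ᵁ E).ι ≫ h) :=
    MorphismProperty.of_isPullback ((isPullback_morphismRestrict q' E).paste_vert sqg) (etale_etaleLocus g)
  haveI : Etale (W.ι ≫ h) := by rw [← Z'.homOfLE_ι hWE, Category.assoc]; infer_instance
  haveI : IsProper (W.ι ≫ h) := inferInstance
  haveI : IsFinite (W.ι ≫ h) := IsFinite.of_isProper_of_locallyQuasiFinite (W.ι ≫ h)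
  refine Groth.L27.ProperDescent.isIso_of_closed z (W.ι ≫ h) ?_
  have sqO : IsPullback (i' ∣_ W) ((i' ⁻¹ᵁ W).ι ≫ hK) (W.ι ≫ h) (pullback.fst z r) :=
    (isPullback_morphismRestrict i' W).paste_vert sqK
  have hrange : Set.range d = Set.range (i' ⁻¹ᵁ W).ι := by
    rw [Scheme.Opens.range_ι]
    ext k
    exact (hWD k).symm
  let e := IsOpenImmersion.isoOfRangeEq d (i' ⁻¹ᵁ W).ι hrange
  have he : e.inv ≫ d = (i' ⁻¹ᵁ W).ι := by
    rw [Iso.inv_comp_eq]; exact (IsOpenImmersion.isoOfRangeEq_hom_fac _ _ _).symm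
  haveI : IsIso ((i' ⁻¹ᵁ W).ι ≫ hK) := by rw [← he, Category.assoc]; infer_instance
  rw [← sqO.isoPullback_inv_snd]
  infer_instance

end Groth.L27.SteinComp
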