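import Groth.Agent.L22.AffineDescent
import Groth.Agent.L27.ClopenIdem
import Mathlib.AlgebraicGeometry.Morphisms.QuasiSeparated

/-! Maps with trivial direct image under flat affine base change. -/

set_option autoImplicit false
set_option linter.style.haveILetI false
set_option backward.isDefEq.respectTransparency false
set_option backward.isDefEq.respectTransparency.types false

universe u

open CategoryTheory CategoryTheory.Limits AlgebraicGeometry

namespace Groth.L27.SteinComp

theorem isIso_appTop_bc {Z T T' P : Scheme.{u}} (p : Z ⟶ T) [QuasiCompact p] [QuasiSeparated p] (e : T' ⟶ T) [Flat e]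
    [IsAffine T'] {U : T.Opens} (hU : IsAffineOpen U) (he : ∀ t, e t ∈ U) (hp : IsIso (p.app U))
    {pz : P ⟶ Z} {pt : P ⟶ T'} (sq : IsPullback pz pt p e) : IsIso pt.appTop := by
  haveI : IsAffine U.toScheme := hU
  have hr : Set.range e ⊆ Set.range U.ι := by
    rintro _ ⟨t, rfl⟩
    rw [Scheme.Opens.range_ι]; exact he t
  let e' := IsOpenImmersion.lift U.ι e hr
  have he' : e' ≫ U.ι = e := IsOpenImmersion.lift_fac _ _ _
  haveI : Flat e' := MorphismProperty.of_postcomp (W := @Flat) (W' := @IsOpenImmersion) _ U.ι inferInstance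
    (he'.symm ▸ ‹Flat e›)
  have hq := (isPullback_morphismRestrict p U).flip
  have hr' : Set.range pz ⊆ Set.range (p ⁻¹ᵁ U).ι := by
    rintro _ ⟨a, rfl⟩
    rw [Scheme.Opens.range_ι]
    show p (pz a) ∈ U
    rw [← Scheme.Hom.comp_apply, sq.w, Scheme.Hom.comp_apply]
    exact he _
  let g := IsOpenImmersion.lift (p ⁻¹ᵁ U).ι pz hr'
  have hg : g ≫ (p ⁻¹ᵁ U).ι = pz := IsOpenImmersion.lift_fac _ _ _
  have H : IsPullback g pt (p ∣_ U) e' := by
    refine IsPullback.of_right ?_ ?_ hq
    · rw [hg, he']; exact sq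
    · rw [← cancel_mono U.ι, Category.assoc, morphismRestrict_ι, ← Category.assoc, hg, Category.assoc, he']
      exact sq.w
  haveI : QuasiCompact (p ∣_ U) := MorphismProperty.of_isPullback hq ‹QuasiCompact p›
  haveI : QuasiSeparated (p ∣_ U) := MorphismProperty.of_isPullback hq ‹QuasiSeparated p›
  haveI : CompactSpace (p ⁻¹ᵁ U).toScheme := QuasiCompact.compactSpace_of_compactSpace (p ∣_ U)
  haveI : QuasiSeparatedSpace (p ⁻¹ᵁ U).toScheme := quasiSeparatedSpace_of_quasiSeparated (p ∣_ U)
  haveI : IsIso (p ∣_ U).appTop := by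
    rw [morphismRestrict_appTop]
    have : ∀ V', V' = U → IsIso (p.app V') := by rintro V' rfl; exact hp
    haveI := this _ U.ι_image_top
    infer_instance
  exact (Groth.L22.AffDesc.isPushout_appTop H).isIso_inr_of_isIso

/-- clopens come from clopens of an affine target with the same functions -/
theorem exists_opens_preimage {Z T : Scheme.{u}} [IsAffine T] (p : Z ⟶ T) [IsIso p.appTop] (W : Z.Opens)
    (hW : IsClosed (W : Set Z)) : ∃ V : T.Opens, IsAffineOpen V ∧ p ⁻¹ᵁ V = W := by
  obtain ⟨e, -, he⟩ := Groth.L27.ClopenIdem.exists_idem Z W hW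
  obtain ⟨t, ht⟩ := (ConcreteCategory.bijective_of_isIso p.appTop).2 e
  refine ⟨T.basicOpen t, (isAffineOpen_top T).basicOpen t, ?_⟩
  rw [Scheme.preimage_basicOpen_top, ← he]
  exact congrArg _ ht

end Groth.L27.SteinComp
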