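import Groth.Agent.L27.SteinComp.Local
import Groth.Agent.L27.SteinComp.Sections

/-! Descending a section of the Stein factorisation from a strict henselization. -/

set_option autoImplicit false
set_option linter.style.haveILetI false
set_option backward.isDefEq.respectTransparency false
set_option backward.isDefEq.respectTransparency.types false

universe u

open CategoryTheory CategoryTheory.Limits AlgebraicGeometry TopologicalSpace IsLocalRing

namespace Groth.L27.SteinComp

theorem isIso_of_isIso_appTop {X Y : Scheme.{u}} [IsAffine X] [IsAffine Y] (f : X ⟶ Y) [IsIso f.appTop] : IsIso f := by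
  have h : f = X.isoSpec.hom ≫ Spec.map f.appTop ≫ Y.isoSpec.inv := by
    rw [← Category.assoc, Iso.eq_comp_inv]
    exact Scheme.toSpecΓ_naturality f
  rw [h]
  infer_instance

variable {X' X S N : Scheme.{u}}

/-- a clopen mapping isomorphically to a scheme with trivial functions gives a flat section -/
theorem exists_section (π : X' ⟶ S) (τ : X' ⟶ N) (ν : N ⟶ S) [QuasiCompact τ] [QuasiSeparated τ] [IsAffineHom ν]
    (hτ : τ ≫ ν = π) (hO : ∀ U : N.Opens, IsIso (τ.app U))
    {B : Scheme.{u}} [IsAffine B] (m : B ⟶ S) [Flat m] {U : S.Opens} (hU : IsAffineOpen U) (hm : ∀ b, m b ∈ U)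
    (W : (pullback π m).Opens) (hW : IsClosed (W : Set ↥(pullback π m)))
    (hWO : IsIso (W.ι ≫ pullback.snd π m).appTop) :
    ∃ e : B ⟶ N, Flat e ∧ e ≫ ν = m ∧ IsPullback (W.ι ≫ pullback.fst π m) (W.ι ≫ pullback.snd π m) τ e := by
  haveI : IsAffine (pullback ν m) := isAffine_of_isAffineHom (pullback.snd ν m)
  let τR : pullback π m ⟶ pullback ν m := pullback.lift (pullback.fst π m ≫ τ) (pullback.snd π m)
    (by rw [Category.assoc, hτ, pullback.condition])
  have hτ1 : τR ≫ pullback.fst ν m = pullback.fst π m ≫ τ := pullback.lift_fst _ _ _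
  have hτ2 : τR ≫ pullback.snd ν m = pullback.snd π m := pullback.lift_snd _ _ _
  have sqτ : IsPullback (pullback.fst π m) τR τ (pullback.fst ν m) := by
    refine IsPullback.of_bot ?_ hτ1.symm (IsPullback.of_hasPullback ν m)
    rw [hτ2, hτ]
    exact IsPullback.of_hasPullback π m
  haveI : Flat (pullback.fst ν m) := MorphismProperty.pullback_fst _ _ inferInstance
  have hN : ∀ z, pullback.fst ν m z ∈ ν ⁻¹ᵁ U := fun z => by
    show ν (pullback.fst ν m z) ∈ U
    rw [← Scheme.Hom.comp_apply, pullback.condition, Scheme.Hom.comp_apply]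
    exact hm _
  haveI : IsIso τR.appTop := isIso_appTop_bc τ (pullback.fst ν m) (hU.preimage ν) hN (hO _) sqτ
  obtain ⟨V, hV, rfl⟩ := exists_opens_preimage τR W hW
  haveI : IsAffine V.toScheme := hV
  have sqV : IsPullback ((τR ⁻¹ᵁ V).ι ≫ pullback.fst π m) (τR ∣_ V) τ (V.ι ≫ pullback.fst ν m) :=
    (isPullback_morphismRestrict τR V).flip.paste_horiz sqτ
  haveI : IsIso (τR ∣_ V).appTop := isIso_appTop_bc τ (V.ι ≫ pullback.fst ν m) (hU.preimage ν)
    (fun z => by rw [Scheme.Hom.comp_apply]; exact hN _) (hO _) sqV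
  let νV := V.ι ≫ pullback.snd ν m
  have hcomp : (τR ∣_ V) ≫ νV = (τR ⁻¹ᵁ V).ι ≫ pullback.snd π m := by
    simp only [νV]; rw [← Category.assoc, morphismRestrict_ι, Category.assoc, hτ2]
  haveI : IsIso νV.appTop := by
    haveI : IsIso (νV.appTop ≫ (τR ∣_ V).appTop) := by
      rw [← Scheme.Hom.comp_appTop, hcomp]; exact hWO
    exact IsIso.of_isIso_comp_right _ (τR ∣_ V).appTop
  haveI : IsIso νV := isIso_of_isIso_appTop νV
  refine ⟨inv νV ≫ V.ι ≫ pullback.fst ν m, inferInstance, ?_, ?_⟩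
  · rw [Category.assoc, Category.assoc, pullback.condition, IsIso.inv_comp_eq]
    exact (Category.assoc _ _ _).symm
  · refine sqV.of_iso (Iso.refl _) (Iso.refl _) (asIso νV) (Iso.refl _) ?_ ?_ ?_ ?_
    · simp
    · simp only [Iso.refl_hom, Category.id_comp, asIso_hom]; exact hcomp
    · simp
    · simp

/-- etale at the image of a flat section over a strict henselization -/
theorem exists_etale_nhd_of_section (ν : N ⟶ S) [LocallyOfFiniteType ν] [IsLocallyNoetherian S]
    {R : CommRingCat.{u}} [IsLocalRing R] (e : Spec R ⟶ N) [Flat e] (s : S)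
    (φ : S.presheaf.stalk s ⟶ R) [IsLocalHom φ.hom] (heq : e ≫ ν = Spec.map φ ≫ S.fromSpecStalk s)
    (hφ : φ.hom.Flat) (hmax : (maximalIdeal (S.presheaf.stalk s)).map φ.hom = maximalIdeal R)
    (hsep : letI := (ResidueField.map φ.hom).toAlgebra
      Algebra.IsSeparable (ResidueField (S.presheaf.stalk s)) (ResidueField R)) :
    ∃ W : N.Opens, e (closedPoint R) ∈ W ∧ Etale (W.ι ≫ ν) := by
  have hs : ν (e (closedPoint R)) = s := by
    rw [← Scheme.Hom.comp_apply, heq, Scheme.Hom.comp_apply, Spec_closedPoint]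
    exact Scheme.fromSpecStalk_closedPoint
  subst hs
  let ψ := Scheme.stalkClosedPointTo e
  have hc : ν.stalkMap (e (closedPoint R)) ≫ ψ = φ := by
    apply Spec.map_injective
    rw [← cancel_mono (S.fromSpecStalk (ν (e (closedPoint R)))), ← heq, Spec.map_comp, Category.assoc,
      Scheme.SpecMap_stalkMap_fromSpecStalk, ← Category.assoc, Scheme.Spec_stalkClosedPointTo_fromSpecStalk]
  have hψ : ψ.hom.Flat := by
    show ((Scheme.stalkClosedPointTo e)).hom.Flat
    rw [Scheme.stalkClosedPointTo, CommRingCat.hom_comp]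
    exact RingHom.Flat.comp (Flat.stalkMap e _)
      (RingHom.Flat.of_bijective (ConcreteCategory.bijective_of_isIso (stalkClosedPointIso R).hom))
  subst hc
  obtain ⟨h1, h2⟩ := flat_formallyUnramified_of_comp (ν.stalkMap (e (closedPoint R))).hom ψ.hom
    (LocallyOfFiniteType.stalkMap ν _) hψ hφ hmax hsep
  exact exists_etale_nhd_of_stalk ν _ h1 h2

/-- an isomorphism over a flat point spreads out -/
theorem exists_isIso_over (f : X ⟶ S) [IsProper f] (ν : N ⟶ S) [IsFinite ν] [IsLocallyNoetherian S]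
    (c : X' ⟶ pullback f ν) [IsProper c] {B : Scheme.{u}} (e : B ⟶ N) [Flat e]
    {W : Scheme.{u}} {wx : W ⟶ X'} {wb : W ⟶ B} (sqe : IsPullback wx wb (c ≫ pullback.snd f ν) e)
    {XR : Scheme.{u}} {x₁ : XR ⟶ X} {x₂ : XR ⟶ B} (sqX : IsPullback x₁ x₂ f (e ≫ ν))
    (h : W ⟶ XR) [IsIso h] (h1 : h ≫ x₁ = wx ≫ c ≫ pullback.fst f ν) (h2 : h ≫ x₂ = wb) (b : B) :
    ∃ U : N.Opens, e b ∈ U ∧ IsIso (c ∣_ (pullback.snd f ν ⁻¹ᵁ U)) := by
  let sP := pullback.snd f ν
  let t₁ := pullback.fst sP e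
  have sqT : IsPullback (t₁ ≫ pullback.fst f ν) (pullback.snd sP e) f (e ≫ ν) :=
    (IsPullback.of_hasPullback sP e).paste_horiz (IsPullback.of_hasPullback f ν) |> fun q => q
  let j : W ⟶ pullback sP e := pullback.lift (wx ≫ c) wb (by rw [Category.assoc]; exact sqe.w)
  have hj1 : j ≫ t₁ = wx ≫ c := pullback.lift_fst _ _ _
  have hj2 : j ≫ pullback.snd sP e = wb := pullback.lift_snd _ _ _
  have sqj : IsPullback wx j c t₁ := by
    refine IsPullback.of_bot ?_ hj1.symm (IsPullback.of_hasPullback sP e)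
    rw [hj2]; exact sqe
  haveI : IsIso j := by
    have : h = j ≫ (sqT.isoIsPullback _ _ sqX).hom := by
      apply sqX.hom_ext
      · rw [Category.assoc, IsPullback.isoIsPullback_hom_fst, h1, ← Category.assoc j, hj1, Category.assoc]
      · rw [Category.assoc, IsPullback.isoIsPullback_hom_snd, h2, hj2]
    haveI : IsIso (j ≫ (sqT.isoIsPullback _ _ sqX).hom) := this ▸ inferInstance
    exact IsIso.of_isIso_comp_right _ (sqT.isoIsPullback _ _ sqX).hom
  haveI : IsIso (pullback.snd c t₁) := by rw [← sqj.isoPullback_inv_snd]; infer_instance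
  haveI : Flat t₁ := MorphismProperty.pullback_fst _ _ inferInstance
  haveI : IsLocallyNoetherian X := LocallyOfFiniteType.isLocallyNoetherian f
  haveI : IsLocallyNoetherian (pullback f ν) := LocallyOfFiniteType.isLocallyNoetherian (pullback.fst f ν)
  have hloc : ∀ y : ↥(pullback f ν), sP y = e b → ∃ U : (pullback f ν).Opens, y ∈ U ∧ IsIso (c ∣_ U) := by
    intro y hy
    obtain ⟨t, rfl⟩ : y ∈ Set.range t₁ := by
      rw [Scheme.Pullback.range_fst]; exact ⟨b, hy.symm⟩
    haveI := Groth.L22.Pointwise.isIso_pullback_fromSpecStalk c t₁ t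
    exact exists_isIso_nhd c _
  let Ω : (pullback f ν).Opens := sSup {U | IsIso (c ∣_ U)}
  haveI : IsProper sP := MorphismProperty.pullback_snd _ _ inferInstance
  refine ⟨⟨(sP '' (Ω : Set _)ᶜ)ᶜ, (sP.isClosedMap _ Ω.2.isClosed_compl).isOpen_compl⟩, ?_, ?_⟩
  · rintro ⟨y, hyΩ, hy⟩
    obtain ⟨U, hyU, hU⟩ := hloc y hy
    exact hyΩ (TopologicalSpace.Opens.mem_sSup.2 ⟨U, hU, hyU⟩)
  · generalize hP : (sP ⁻¹ᵁ _) = pre
    have hle : ∀ z ∈ pre, z ∈ Ω := by
      intro z hz
      rw [← hP] at hz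
      exact by_contra fun hn => hz ⟨z, hn, rfl⟩
    show MorphismProperty.isomorphisms Scheme.{u} (c ∣_ pre)
    refine IsZariskiLocalAtTarget.of_forall_exists_morphismRestrict (P := MorphismProperty.isomorphisms Scheme.{u})
      fun z => ?_
    obtain ⟨(U : (pullback f ν).Opens), hU, hzU⟩ := TopologicalSpace.Opens.mem_sSup.1 (hle z.1 z.2)
    refine ⟨pre.ι ⁻¹ᵁ U, hzU, ?_⟩
    rw [MorphismProperty.arrow_mk_iso_iff (MorphismProperty.isomorphisms Scheme.{u}) (morphismRestrictRestrict c pre _)]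
    have hle' : pre.ι ''ᵁ (pre.ι ⁻¹ᵁ U) ≤ U := fun x ⟨x', hx', e⟩ => e ▸ hx'
    generalize pre.ι ''ᵁ (pre.ι ⁻¹ᵁ U) = V at hle' ⊢
    haveI : IsIso (c ∣_ U) := hU
    have hV : V = U.ι ''ᵁ (U.ι ⁻¹ᵁ V) := by
      rw [Scheme.Hom.image_preimage_eq_opensRange_inf, Scheme.Opens.opensRange_ι, inf_eq_right.2 hle']
    rw [hV, ← MorphismProperty.arrow_mk_iso_iff (MorphismProperty.isomorphisms Scheme.{u}) (morphismRestrictRestrict c U _)]
    exact (inferInstance : IsIso ((c ∣_ U) ∣_ (U.ι ⁻¹ᵁ V)))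

end Groth.L27.SteinComp
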