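import Groth.Agent.L25.Descent.CentralHom
import Groth.Agent.L27.Product.Split
import Groth.Prelude.Def_Pi1
import Mathlib.AlgebraicGeometry.Morphisms.Descent

/-! Split covers over separably closed fields. -/

set_option autoImplicit false
set_option linter.style.haveILetI false
set_option backward.isDefEq.respectTransparency false
set_option backward.isDefEq.respectTransparency.types false

universe u

open CategoryTheory CategoryTheory.Limits AlgebraicGeometry TopologicalSpace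

namespace Groth.L27.SteinComp

/-- a cover cut into opens mapping isomorphically is split -/
theorem isSplit_of_partition {X : Scheme.{u}} (Y : FEt.Cat X) {ι : Type u} [Finite ι] (O : ι → Y.left.Opens)
    (hdis : ∀ C D : ι, C ≠ D → Disjoint (O C : Set Y.left) (O D)) (hcov : ∀ y, ∃ C, y ∈ O C)
    (hiso : ∀ C, IsIso ((O C).ι ≫ Y.hom)) : Pi1.IsSplit Y := by
  let hY : Y.left ⟶ X := Y.hom
  have hiso' : ∀ C, IsIso ((O C).ι ≫ hY) := hiso
  let s : ι → (X ⟶ Y.left) := fun C => haveI := hiso' C; inv ((O C).ι ≫ hY) ≫ (O C).ι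
  have hs : ∀ C, s C ≫ hY = 𝟙 X := fun C => by
    haveI := hiso' C; simp only [s, Category.assoc, IsIso.inv_hom_id]
  haveI : ∀ C, IsOpenImmersion (s C) := fun C => by haveI := hiso' C; simp only [s]; infer_instance
  have hr : ∀ C, Set.range (s C) = (O C : Set Y.left) := fun C => by
    haveI := hiso' C
    show Set.range (inv ((O C).ι ≫ hY) ≫ (O C).ι) = _
    rw [Scheme.Hom.comp_base, TopCat.coe_comp, Set.range_comp,
      (inv ((O C).ι ≫ hY)).homeomorph.surjective.range_eq |> fun e => (e : Set.range ⇑(inv ((O C).ι ≫ hY)).base = _),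
      Set.image_univ]
    exact Scheme.Opens.range_ι _
  haveI : IsOpenImmersion (Sigma.desc s) := isOpenImmersion_sigmaDesc _ _ fun C D hne => by
    show Disjoint (Set.range (s C)) (Set.range (s D))
    rw [hr, hr]; exact hdis C D hne
  haveI : Surjective (Sigma.desc s) := ⟨fun y => by
    obtain ⟨C, hC⟩ := hcov y
    obtain ⟨x, hx⟩ : y ∈ Set.range (s C) := by rw [hr]; exact hC
    refine ⟨Sigma.ι (fun _ : ι => X) C x, ?_⟩
    rw [← Scheme.Hom.comp_apply, Sigma.ι_desc]; exact hx⟩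
  haveI : IsIso (Sigma.desc s) := (isIso_iff_isOpenImmersion_and_surjective _).2 ⟨inferInstance, inferInstance⟩
  refine ⟨ι, inferInstance, (asIso (Sigma.desc s)).symm, fun C => ?_⟩
  show Sigma.ι (fun _ : ι => X) C ≫ Sigma.desc s ≫ hY = 𝟙 X
  rw [Sigma.ι_desc_assoc, hs]

/-- over a separably closed field a geometrically trivial cover of a connected scheme has a section component -/
theorem exists_component_iso {k : Type u} [Field k] [IsSepClosed k] {Xk Ck : Scheme.{u}}
    (q : Xk ⟶ Spec (CommRingCat.of k)) [LocallyOfFiniteType q] [QuasiCompact q]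
    (u : Ck ⟶ Xk) [IsFinite u] [Nonempty Ck]
    {Ω : Type u} [Field Ω] (j : Spec (CommRingCat.of Ω) ⟶ Spec (CommRingCat.of k))
    {XΩ : Scheme.{u}} {a : XΩ ⟶ Xk} {b : XΩ ⟶ Spec (CommRingCat.of Ω)} (sqX : IsPullback a b q j) [ConnectedSpace XΩ]
    {CΩ : Scheme.{u}} {a' : CΩ ⟶ Ck} {u' : CΩ ⟶ XΩ} (sqC : IsPullback a' u' u a)
    {ι : Type u} [Finite ι] (e : CΩ ≅ ∐ fun _ : ι => XΩ)
    (he : ∀ i : ι, Sigma.ι (fun _ : ι => XΩ) i ≫ e.inv ≫ u' = 𝟙 XΩ) :
    ∃ D : Ck.Opens, IsClosed (D : Set Ck) ∧ (D : Set Ck).Nonempty ∧ IsIso (D.ι ≫ u) := by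
  haveI : IsLocallyNoetherian Xk := LocallyOfFiniteType.isLocallyNoetherian q
  haveI : IsLocallyNoetherian Ck := LocallyOfFiniteType.isLocallyNoetherian u
  let c₀ : Ck := Classical.arbitrary Ck
  let D : Ck.Opens := ⟨connectedComponent c₀, (Groth.L27.Product.isClopen_connectedComponent c₀).2⟩
  refine ⟨D, isClosed_connectedComponent, ⟨c₀, mem_connectedComponent⟩, ?_⟩
  haveI : ConnectedSpace D.toScheme := isConnected_iff_connectedSpace.1 isConnected_connectedComponent
  haveI := Groth.L25.Descent.geometricallyConnected_of_connected (D.ι ≫ u ≫ q)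
  have sq1 : IsPullback (a' ∣_ D) ((a' ⁻¹ᵁ D).ι ≫ u' ≫ b) (D.ι ≫ u ≫ q) j :=
    (isPullback_morphismRestrict a' D).paste_vert (sqC.paste_vert sqX)
  haveI : ConnectedSpace (a' ⁻¹ᵁ D).toScheme :=
    GeometricallyConnected.geometrically_connectedSpace (f := D.ι ≫ u ≫ q) _ _ _ sq1
  let w := (a' ⁻¹ᵁ D).ι ≫ e.hom
  obtain ⟨p₀⟩ := (inferInstance : Nonempty (a' ⁻¹ᵁ D).toScheme)
  obtain ⟨i, y, hy⟩ := (sigmaOpenCover fun _ : ι => XΩ).exists_eq (w p₀)
  have hclo : IsClopen (Set.range (Sigma.ι (fun _ : ι => XΩ) i)) := by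
    haveI : IsOpenImmersion (Sigma.ι (fun _ : ι => XΩ) i) := inferInstance
    refine ⟨?_, (Sigma.ι (fun _ : ι => XΩ) i).isOpenEmbedding.isOpen_range⟩
    have : (Set.range (Sigma.ι (fun _ : ι => XΩ) i))ᶜ =
        ⋃ l ∈ {l : ι | l ≠ i}, Set.range (Sigma.ι (fun _ : ι => XΩ) l) := by
      ext z
      obtain ⟨l, z', rfl⟩ := (sigmaOpenCover fun _ : ι => XΩ).exists_eq z
      simp only [Set.mem_compl_iff, Set.mem_iUnion, Set.mem_ofPred_eq]
      constructor
      · intro h
        exact ⟨l, fun hl => h (hl ▸ ⟨z', rfl⟩), z', rfl⟩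
      · rintro ⟨l', hl', z'', hz''⟩ h
        have hd := disjoint_opensRange_sigmaι (fun _ : ι => XΩ) l' i hl'
        rw [disjoint_iff, ← TopologicalSpace.Opens.coe_inj] at hd
        exact (Set.eq_empty_iff_forall_notMem.1 hd) _ (show _ ∈ (_ : Set _) ∩ _ from ⟨⟨z'', hz''⟩, h⟩)
    rw [← isOpen_compl_iff, this]
    exact isOpen_biUnion fun l _ => (Sigma.ι (fun _ : ι => XΩ) l).isOpenEmbedding.isOpen_range
  have hr : Set.range w ⊆ Set.range (Sigma.ι (fun _ : ι => XΩ) i) := by
    rcases isClopen_iff.1 (hclo.preimage w.continuous) with h | h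
    · exact absurd (show p₀ ∈ w ⁻¹' Set.range (Sigma.ι (fun _ : ι => XΩ) i) from ⟨y, hy⟩) (h ▸ Set.notMem_empty p₀)
    · rintro _ ⟨p, rfl⟩
      exact (Set.eq_univ_iff_forall.1 h) p
  let l := IsOpenImmersion.lift (Sigma.ι (fun _ : ι => XΩ) i) w hr
  have hl : l ≫ Sigma.ι (fun _ : ι => XΩ) i = w := IsOpenImmersion.lift_fac _ _ _
  haveI : IsClosedImmersion (a' ⁻¹ᵁ D).ι := IsClosedImmersion.of_isPreimmersion _ (by
    rw [Scheme.Opens.range_ι]; exact isClosed_connectedComponent.preimage a'.continuous)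
  haveI : IsOpenImmersion (l ≫ Sigma.ι (fun _ : ι => XΩ) i) := by rw [hl]; infer_instance
  haveI : IsOpenImmersion l := IsOpenImmersion.of_comp l (Sigma.ι (fun _ : ι => XΩ) i)
  haveI : IsClosedImmersion l := IsClosedImmersion.of_isPreimmersion l (by
    have h1 : Set.range l = Sigma.ι (fun _ : ι => XΩ) i ⁻¹' Set.range w := by
      rw [← hl, Scheme.Hom.comp_base, TopCat.coe_comp, Set.range_comp,
        Set.preimage_image_eq _ (Sigma.ι (fun _ : ι => XΩ) i).isOpenEmbedding.injective]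
    rw [h1]
    refine IsClosed.preimage (Sigma.ι (fun _ : ι => XΩ) i).continuous ?_
    exact ((a' ⁻¹ᵁ D).ι ≫ e.hom).isClosedEmbedding.isClosed_range)
  haveI : Surjective l := ⟨fun z => by
    rcases isClopen_iff.1 (⟨l.isClosedEmbedding.isClosed_range, l.isOpenEmbedding.isOpen_range⟩ : IsClopen (Set.range l)) with h | h
    · exact absurd h (Set.range_nonempty l).ne_empty
    · exact (Set.eq_univ_iff_forall.1 h) z⟩
  haveI : IsIso l := (isIso_iff_isOpenImmersion_and_surjective _).2 ⟨inferInstance, inferInstance⟩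
  have hlu : (a' ⁻¹ᵁ D).ι ≫ u' = l := by
    have h1 : (a' ⁻¹ᵁ D).ι = w ≫ e.inv := by simp [w]
    rw [h1, ← hl, Category.assoc, Category.assoc, he i, Category.comp_id]
  have sq2 : IsPullback (a' ∣_ D) ((a' ⁻¹ᵁ D).ι ≫ u') (D.ι ≫ u) a :=
    (isPullback_morphismRestrict a' D).paste_vert sqC
  haveI : Flat j := inferInstance
  haveI : Surjective j := ⟨fun z => ⟨default, Subsingleton.elim _ _⟩⟩
  haveI : QuasiCompact j := inferInstance
  have hA : (@Surjective ⊓ @Flat ⊓ @QuasiCompact : MorphismProperty Scheme.{u}) a :=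
    ⟨⟨MorphismProperty.of_isPullback sqX.flip ‹Surjective j›, MorphismProperty.of_isPullback sqX.flip ‹Flat j›⟩,
      MorphismProperty.of_isPullback sqX.flip ‹QuasiCompact j›⟩
  exact MorphismProperty.of_isPullback_of_descendsAlong (P := MorphismProperty.isomorphisms Scheme.{u})
    sq2.flip hA (show IsIso ((a' ⁻¹ᵁ D).ι ≫ u') by rw [hlu]; infer_instance)

end Groth.L27.SteinComp
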