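import Groth.Agent.L27.SteinComp.Field
import Groth.Prelude.Def_Pi1X
import Mathlib.AlgebraicGeometry.Morphisms.QuasiFinite
import Mathlib.AlgebraicGeometry.AlgClosed.Basic

/-! From an isomorphism over an etale neighbourhood to a split cover of the fibre. -/

set_option autoImplicit false
set_option linter.style.haveILetI false
set_option backward.isDefEq.respectTransparency false
set_option backward.isDefEq.respectTransparency.types false

universe u

open CategoryTheory CategoryTheory.Limits AlgebraicGeometry TopologicalSpace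

namespace Groth.L27.SteinComp

/-- an etale scheme with one point over an algebraically closed field is the field -/
theorem isIso_of_subsingleton {Ω : Type u} [Field Ω] [IsAlgClosed Ω] {W : Scheme.{u}} (a : W ⟶ Spec (CommRingCat.of Ω))
    [Etale a] [IsSeparated a] [Subsingleton W] [Nonempty W] : IsIso a := by
  obtain ⟨w⟩ := ‹Nonempty W›
  have hw : IsClosed ({w} : Set W) := by
    have h : ({w} : Set W) = Set.univ := Set.eq_univ_of_forall fun z => Subsingleton.elim z w
    rw [h]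
    exact isClosed_univ
  let σ := pointOfClosedPoint a w hw
  have hσ : σ ≫ a = 𝟙 _ := pointOfClosedPoint_comp a w hw
  haveI : Etale (σ ≫ a) := by rw [hσ]; infer_instance
  haveI : Etale σ := Etale.of_comp σ a
  haveI : Mono (σ ≫ a) := by rw [hσ]; infer_instance
  haveI : Mono σ := mono_of_mono σ a
  haveI : IsOpenImmersion σ := IsOpenImmersion.of_flat_of_mono σ
  haveI : Surjective σ := ⟨fun z => ⟨default, Subsingleton.elim _ _⟩⟩
  haveI : IsIso σ := (isIso_iff_isOpenImmersion_and_surjective _).2 ⟨inferInstance, inferInstance⟩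
  haveI : IsIso (σ ≫ a) := by rw [hσ]; infer_instance
  exact IsIso.of_isIso_comp_left σ a

/-- a cover pulled back from a finite etale scheme over an algebraically closed field is split -/
theorem isSplit_of_point {Ω : Type u} [Field Ω] [IsAlgClosed Ω] {X : Scheme.{u}} (Y : FEt.Cat X)
    {P : Scheme.{u}} (a : P ⟶ Spec (CommRingCat.of Ω)) [IsFinite a] [Etale a] {m : Y.left ⟶ P}
    {b : X ⟶ Spec (CommRingCat.of Ω)} (sq : IsPullback Y.hom m b a) : Pi1.IsSplit Y := by
  haveI : IsLocallyArtinian P := IsLocallyArtinian.of_locallyQuasiFinite a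
  haveI : DiscreteTopology P := (IsLocallyArtinian.iff_isLocallyNoetherian_and_discreteTopology.1 inferInstance).2
  haveI : CompactSpace P := QuasiCompact.compactSpace_of_compactSpace a
  haveI : Finite P := finite_of_compact_of_discrete
  let V : P → P.Opens := fun p => ⟨{p}, isOpen_discrete _⟩
  haveI : ∀ p, Subsingleton (V p).toScheme := fun p => ⟨fun a b => Subtype.ext (a.2.trans b.2.symm)⟩
  haveI : ∀ p, Nonempty (V p).toScheme := fun p => ⟨⟨p, rfl⟩⟩
  have hiso : ∀ p, IsIso ((V p).ι ≫ a) := fun p => isIso_of_subsingleton _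
  refine isSplit_of_partition Y (fun p => m ⁻¹ᵁ V p) ?_ (fun y => ⟨m y, rfl⟩) fun p => ?_
  · intro C D hne
    rw [Set.disjoint_left]
    intro y (h1 : m y = C) (h2 : m y = D)
    exact hne (h1.symm.trans h2)
  · exact MorphismProperty.of_isPullback (P := MorphismProperty.isomorphisms Scheme.{u})
      ((isPullback_morphismRestrict m (V p)).paste_vert sq.flip) (hiso p)

variable {X X' S N : Scheme.{u}} (f : X ⟶ S) (g : X' ⟶ X) (τ : X' ⟶ N) (ν : N ⟶ S) [IsSeparated ν]
  (c : X' ⟶ pullback f ν) (hc1 : c ≫ pullback.fst f ν = g) (hc2 : c ≫ pullback.snd f ν = τ)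

include hc1 hc2 in
theorem forward (hτ : τ ≫ ν = g ≫ f) (s : S) (s' : N) (hs' : ν s' = s)
    (C : (pullback (g ≫ f) (S.fromSpecResidueField s)).Opens)
    (hC : ∀ x : ↥(pullback (g ≫ f) (S.fromSpecResidueField s)),
      x ∈ C ↔ τ (pullback.fst (g ≫ f) (S.fromSpecResidueField s) x) = s')
    (U' : N.Opens) (hsU : s' ∈ U') [Etale (U'.ι ≫ ν)] [IsIso (c ∣_ (pullback.snd f ν ⁻¹ᵁ U'))] :
    (∀ x : C, pullback.fst (g ≫ f) (S.fromSpecResidueField s) x.1 ∈ Pi1X.etaleLocus g) ∧
      ∃ (hF : IsFinite (C.ι ≫ pullback.map (g ≫ f) (S.fromSpecResidueField s) f (S.fromSpecResidueField s) g (𝟙 _) (𝟙 S)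
        (Category.comp_id _) ((Category.comp_id _).trans (Category.id_comp _).symm)))
          (hE : Etale (C.ι ≫ pullback.map (g ≫ f) (S.fromSpecResidueField s) f (S.fromSpecResidueField s) g (𝟙 _) (𝟙 S)
        (Category.comp_id _) ((Category.comp_id _).trans (Category.id_comp _).symm))),
          Pi1.IsSplit ((FEt.restrict (pullback.fst (pullback.snd f (S.fromSpecResidueField s))
            (Spec.map (CommRingCat.ofHom (algebraMap (S.residueField s) (AlgebraicClosure (S.residueField s))))))).obj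
            (MorphismProperty.Over.mk ⊤ (C.ι ≫ pullback.map (g ≫ f) (S.fromSpecResidueField s) f (S.fromSpecResidueField s) g (𝟙 _) (𝟙 S)
        (Category.comp_id _) ((Category.comp_id _).trans (Category.id_comp _).symm)) ⟨hF, hE⟩)) := by
  let σ := S.fromSpecResidueField s
  let u₀ : pullback (g ≫ f) σ ⟶ pullback f σ := pullback.map (g ≫ f) σ f σ g (𝟙 _) (𝟙 S)
    (Category.comp_id _) ((Category.comp_id _).trans (Category.id_comp _).symm)
  have hu1 : u₀ ≫ pullback.fst f σ = pullback.fst (g ≫ f) σ ≫ g := pullback.lift_fst _ _ _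
  have hu2 : u₀ ≫ pullback.snd f σ = pullback.snd (g ≫ f) σ := (pullback.lift_snd _ _ _).trans (Category.comp_id _)
  let p₁ := pullback.fst (g ≫ f) σ
  let pre := pullback.snd f ν ⁻¹ᵁ U'
  let Q := c ⁻¹ᵁ pre
  let cq : Q.toScheme ⟶ U'.toScheme := (c ∣_ pre) ≫ (pullback.snd f ν ∣_ U')
  have hcq : cq ≫ U'.ι = Q.ι ≫ τ := by
    simp only [cq, Category.assoc, morphismRestrict_ι]
    rw [← Category.assoc, morphismRestrict_ι, Category.assoc, hc2]
  have hmemQ : ∀ x : X', x ∈ Q ↔ τ x ∈ U' := fun x => by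
    show pullback.snd f ν (c x) ∈ U' ↔ _
    rw [← Scheme.Hom.comp_apply, hc2]
  have sqQ : IsPullback (Q.ι ≫ g) cq f (U'.ι ≫ ν) := by
    have h1 : IsPullback (pre.ι ≫ pullback.fst f ν) (pullback.snd f ν ∣_ U') f (U'.ι ≫ ν) :=
      ((isPullback_morphismRestrict (pullback.snd f ν) U').paste_vert (IsPullback.of_hasPullback f ν).flip).flip
    refine h1.of_iso (asIso (c ∣_ pre)).symm (Iso.refl _) (Iso.refl _) (Iso.refl _) ?_ ?_ (by simp) (by simp)
    · simp only [Iso.refl_hom, Category.comp_id, Iso.symm_hom, asIso_inv]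
      rw [eq_comm, IsIso.inv_comp_eq, ← Category.assoc (c ∣_ pre), morphismRestrict_ι, Category.assoc, hc1]
    · simp only [Iso.refl_hom, Category.comp_id, Iso.symm_hom, asIso_inv]
      simp only [cq]
      rw [IsIso.inv_hom_id_assoc]
  have hEQ : Etale (Q.ι ≫ g) := MorphismProperty.of_isPullback sqQ.flip ‹Etale (U'.ι ≫ ν)›
  refine ⟨fun x => TopologicalSpace.Opens.mem_sSup.2 ⟨Q, hEQ, (hmemQ _).2 (by
    have := (hC x.1).1 x.2
    rwa [this])⟩, ?_⟩
  let Qs := p₁ ⁻¹ᵁ Q
  have hπ : Q.ι ≫ g ≫ f = cq ≫ U'.ι ≫ ν := by rw [reassoc_of% hcq, hτ]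
  have sqA : IsPullback (p₁ ∣_ Q) (Qs.ι ≫ pullback.snd (g ≫ f) σ) (Q.ι ≫ g ≫ f) σ :=
    (isPullback_morphismRestrict p₁ Q).paste_vert (IsPullback.of_hasPullback (g ≫ f) σ)
  let sndF := pullback.snd (U'.ι ≫ ν) σ
  let qF : Qs.toScheme ⟶ pullback (U'.ι ≫ ν) σ := pullback.lift ((p₁ ∣_ Q) ≫ cq) (Qs.ι ≫ pullback.snd (g ≫ f) σ)
    (by rw [Category.assoc, ← hπ]; exact sqA.w)
  have hq1 : qF ≫ pullback.fst (U'.ι ≫ ν) σ = (p₁ ∣_ Q) ≫ cq := pullback.lift_fst _ _ _
  have hq2 : qF ≫ sndF = Qs.ι ≫ pullback.snd (g ≫ f) σ := pullback.lift_snd _ _ _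
  have sqB : IsPullback (p₁ ∣_ Q) qF cq (pullback.fst (U'.ι ≫ ν) σ) := by
    refine IsPullback.of_bot ?_ hq1.symm (IsPullback.of_hasPullback (U'.ι ≫ ν) σ)
    rw [← hπ, hq2]; exact sqA
  have sqC : IsPullback (Qs.ι ≫ u₀) qF (pullback.snd f σ) sndF := by
    refine IsPullback.of_right ?_ (by rw [Category.assoc, hu2, hq2]) (IsPullback.of_hasPullback f σ)
    have e1 : (Qs.ι ≫ u₀) ≫ pullback.fst f σ = (p₁ ∣_ Q) ≫ Q.ι ≫ g := by
      rw [Category.assoc, hu1, ← Category.assoc, ← morphismRestrict_ι, Category.assoc]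
    rw [e1, show sndF ≫ σ = pullback.fst (U'.ι ≫ ν) σ ≫ U'.ι ≫ ν from pullback.condition.symm]
    exact sqB.paste_horiz sqQ
  haveI : IsSeparated (U'.ι ≫ ν) := inferInstance
  haveI : Etale sndF := MorphismProperty.pullback_snd _ _ inferInstance
  haveI : IsLocallyArtinian (pullback (U'.ι ≫ ν) σ) := IsLocallyArtinian.of_locallyQuasiFinite sndF
  haveI : DiscreteTopology ↥(pullback (U'.ι ≫ ν) σ) :=
    (IsLocallyArtinian.iff_isLocallyNoetherian_and_discreteTopology.1 inferInstance).2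
  obtain ⟨w₀, hw₀⟩ : (⟨s', hsU⟩ : U'.toScheme) ∈ Set.range (pullback.fst (U'.ι ≫ ν) σ) := by
    rw [Scheme.Pullback.range_fst]
    refine ⟨default, ?_⟩
    refine Eq.trans ?_ hs'.symm
    have : σ default ∈ Set.range σ := ⟨_, rfl⟩
    rw [Scheme.range_fromSpecResidueField] at this
    exact this
  have hinj : Function.Injective (pullback.fst (U'.ι ≫ ν) σ) := (pullback.fst (U'.ι ≫ ν) σ).isEmbedding.injective
  let W₁ : (pullback (U'.ι ≫ ν) σ).Opens := ⟨{w₀}, isOpen_discrete _⟩
  haveI : Subsingleton W₁.toScheme := ⟨fun a b => Subtype.ext (a.2.trans b.2.symm)⟩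
  let a := W₁.ι ≫ sndF
  haveI : CompactSpace W₁.toScheme := Finite.compactSpace
  haveI : QuasiCompact a := quasiCompact_of_compactSpace a
  haveI : LocallyQuasiFinite a := inferInstance
  haveI : IsFinite a := IsFinite.of_locallyQuasiFinite a
  haveI : Etale a := inferInstance
  let O := qF ⁻¹ᵁ W₁
  have hrange : Set.range C.ι = Set.range (O.ι ≫ Qs.ι) := by
    rw [Scheme.Hom.comp_base, TopCat.coe_comp, Set.range_comp, Scheme.Opens.range_ι, Scheme.Opens.range_ι]
    ext x
    constructor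
    · intro hx
      have hxs : τ (p₁ x) = s' := (hC x).1 hx
      have hxQ : x ∈ Qs := (hmemQ _).2 (by rw [hxs]; exact hsU)
      refine ⟨⟨x, hxQ⟩, ?_, rfl⟩
      show qF ⟨x, hxQ⟩ = w₀
      apply hinj
      rw [hw₀, ← Scheme.Hom.comp_apply, hq1]
      apply (U'.ι).isOpenEmbedding.injective
      rw [← Scheme.Hom.comp_apply, Category.assoc, hcq, ← Category.assoc, morphismRestrict_ι]
      exact hxs
    · rintro ⟨⟨x', hx'⟩, hO, rfl⟩
      refine (hC x').2 ?_
      have h1 : qF ⟨x', hx'⟩ = w₀ := hO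
      have h2 : (qF ≫ pullback.fst (U'.ι ≫ ν) σ ≫ U'.ι) ⟨x', hx'⟩ = s' := by
        rw [Scheme.Hom.comp_apply, Scheme.Hom.comp_apply, h1, hw₀]; rfl
      rw [reassoc_of% hq1, hcq, ← Category.assoc, morphismRestrict_ι] at h2
      exact h2
  let i : C.toScheme ≅ O.toScheme := IsOpenImmersion.isoOfRangeEq C.ι (O.ι ≫ Qs.ι) hrange
  have hi : i.hom ≫ O.ι ≫ Qs.ι = C.ι := IsOpenImmersion.isoOfRangeEq_hom_fac _ _ _
  let m : C.toScheme ⟶ W₁.toScheme := i.hom ≫ (qF ∣_ W₁)
  have sqD : IsPullback (C.ι ≫ u₀) m (pullback.snd f σ) a := by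
    have h1 : IsPullback (O.ι ≫ Qs.ι ≫ u₀) (qF ∣_ W₁) (pullback.snd f σ) a :=
      ((isPullback_morphismRestrict qF W₁).paste_vert sqC.flip).flip
    refine h1.of_iso i.symm (Iso.refl _) (Iso.refl _) (Iso.refl _) ?_ ?_ (by simp) (by simp)
    · simp only [Iso.refl_hom, Category.comp_id, Iso.symm_hom]
      rw [eq_comm, Iso.inv_comp_eq, ← reassoc_of% hi]
    · simp only [Iso.refl_hom, Category.comp_id, Iso.symm_hom, m]
      rw [Iso.inv_hom_id_assoc]
  have hF : IsFinite (C.ι ≫ u₀) := MorphismProperty.of_isPullback sqD.flip ‹IsFinite a›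
  have hE : Etale (C.ι ≫ u₀) := MorphismProperty.of_isPullback sqD.flip ‹Etale a›
  refine ⟨hF, hE, ?_⟩
  let j := Spec.map (CommRingCat.ofHom (algebraMap (S.residueField s) (AlgebraicClosure (S.residueField s))))
  let rΩ := pullback.fst (pullback.snd f σ) j
  haveI : Etale (pullback.snd a j) := inferInstance
  haveI : IsFinite (pullback.snd a j) := MorphismProperty.pullback_snd _ _ inferInstance
  let mΩ : pullback (C.ι ≫ u₀) rΩ ⟶ pullback a j :=
    pullback.lift (pullback.fst _ _ ≫ m) (pullback.snd (C.ι ≫ u₀) rΩ ≫ pullback.snd (pullback.snd f σ) j) (by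
      rw [Category.assoc, ← sqD.w, pullback.condition_assoc, Category.assoc, pullback.condition])
  refine isSplit_of_point _ (pullback.snd a j) (m := mΩ) (b := pullback.snd (pullback.snd f σ) j) ?_
  show IsPullback (pullback.snd (C.ι ≫ u₀) rΩ) mΩ (pullback.snd (pullback.snd f σ) j) (pullback.snd a j)
  refine IsPullback.flip (IsPullback.of_right ?_ (pullback.lift_snd _ _ _) (IsPullback.of_hasPullback a j).flip.flip)
  rw [pullback.lift_fst]
  rw [← pullback.condition]
  exact (IsPullback.of_hasPullback (C.ι ≫ u₀) rΩ).paste_horiz sqD.flip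

end Groth.L27.SteinComp
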