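import Groth.Agent.L13.Purity.BranchScheme
import Groth.Agent.L18.LocalStalk
import Groth.Agent.L19.FlatComp
import Groth.Agent.L22.FaithfullyFlatPointwise
import Mathlib.RingTheory.Unramified.LocalRing
import Mathlib.AlgebraicGeometry.Morphisms.Etale
import Mathlib.AlgebraicGeometry.Morphisms.FlatMono

/-! Etale neighbourhoods and isomorphisms near a point, read on local rings. -/

set_option autoImplicit false
set_option linter.style.haveILetI false
set_option backward.isDefEq.respectTransparency false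
set_option backward.isDefEq.respectTransparency.types false

universe u

open CategoryTheory CategoryTheory.Limits AlgebraicGeometry IsLocalRing

namespace Groth.L27.SteinComp

/-- flatness and unramifiedness descend from a faithfully flat local extension -/
theorem flat_formallyUnramified_of_comp {A B C : Type u} [CommRing A] [IsLocalRing A] [CommRing B] [IsLocalRing B]
    [CommRing C] [IsLocalRing C] (φ : A →+* B) (ψ : B →+* C) [IsLocalHom φ] [IsLocalHom ψ]
    (hess : φ.EssFiniteType) (hψ : ψ.Flat) (hc : (ψ.comp φ).Flat)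
    (hm : (maximalIdeal A).map (ψ.comp φ) = maximalIdeal C)
    (hsep : letI := (ResidueField.map (ψ.comp φ)).toAlgebra
      Algebra.IsSeparable (ResidueField A) (ResidueField C)) :
    φ.Flat ∧ φ.FormallyUnramified := by
  algebraize [φ, ψ, ψ.comp φ]
  haveI : IsLocalHom (algebraMap A B) := ‹IsLocalHom φ›
  haveI : IsLocalHom (algebraMap B C) := ‹IsLocalHom ψ›
  haveI : IsLocalHom (algebraMap A C) := inferInstanceAs (IsLocalHom (ψ.comp φ))
  haveI : Module.FaithfullyFlat B C := Module.FaithfullyFlat.of_flat_of_isLocalHom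
  refine ⟨Groth.L19.flat_of_flat_of_faithfullyFlat A B C, ?_⟩
  show Algebra.FormallyUnramified A B
  refine Algebra.FormallyUnramified.iff_map_maximalIdeal_eq.2 ⟨?_, ?_⟩
  · haveI : Algebra.IsSeparable (ResidueField A) (ResidueField C) := by
      convert hsep using 1
      exact Algebra.algebra_ext _ _ fun r => by obtain ⟨a, rfl⟩ := residue_surjective r; rfl
    haveI : IsScalarTower (ResidueField A) (ResidueField B) (ResidueField C) := IsScalarTower.of_algebraMap_eq fun x => by
      obtain ⟨a, rfl⟩ := residue_surjective x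
      rfl
    exact Algebra.isSeparable_tower_bot_of_isSeparable (ResidueField A) (ResidueField B) (ResidueField C)
  · refine le_antisymm (Ideal.map_le_iff_le_comap.2 fun a ha => map_nonunit (algebraMap A B) a ha) ?_
    intro b hb
    rw [← Ideal.comap_map_eq_self_of_faithfullyFlat (A := B) (B := C) ((maximalIdeal A).map (algebraMap A B)),
      Ideal.mem_comap, Ideal.map_map]
    show _ ∈ (maximalIdeal A).map (ψ.comp φ)
    rw [hm]
    exact map_nonunit (algebraMap B C) b hb

theorem exists_etale_nhd_of_stalk {X Y : Scheme.{u}} (f : X ⟶ Y) [LocallyOfFiniteType f] [IsLocallyNoetherian Y]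
    (x : X) (hf : (f.stalkMap x).hom.Flat) (hu : (f.stalkMap x).hom.FormallyUnramified) :
    ∃ W : X.Opens, x ∈ W ∧ Etale (W.ι ≫ f) := by
  obtain ⟨_, ⟨(U : Y.Opens), hU, rfl⟩, hxU, -⟩ :=
    Y.isBasis_affineOpens.exists_subset_of_mem_open (Set.mem_univ (f x)) isOpen_univ
  obtain ⟨_, ⟨(V : X.Opens), hV, rfl⟩, hxV, e⟩ :=
    X.isBasis_affineOpens.exists_subset_of_mem_open (show x ∈ (f ⁻¹ᵁ U : Set X) from hxU) (f ⁻¹ᵁ U).2
  letI := (f.appLE U V e).hom.toAlgebra
  haveI : IsNoetherianRing Γ(Y, U) := IsLocallyNoetherian.component_noetherian ⟨U, hU⟩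
  haveI : Algebra.FiniteType Γ(Y, U) Γ(X, V) := f.finiteType_appLE hU hV e
  haveI : Algebra.FinitePresentation Γ(Y, U) Γ(X, V) := Algebra.FinitePresentation.of_finiteType.1 inferInstance
  let p := (hU.primeIdealOf ⟨f x, e hxV⟩).asIdeal
  let q := (hV.primeIdealOf ⟨x, hxV⟩).asIdeal
  haveI : q.LiesOver p := ⟨congr($(IsAffineOpen.comap_primeIdealOf_appLE U hU V hV e hxV).1).symm⟩
  letI := Localization.AtPrime.algebraOfLiesOver p q
  haveI : Module.Flat (Localization.AtPrime p) (Localization.AtPrime q) :=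
    RingHom.flat_algebraMap_iff.1
      ((RingHom.Flat.respectsIso.arrow_mk_iso_iff (IsAffineOpen.arrowStalkMapIso f U hU V hV e hxV)).1 hf)
  haveI : Module.Flat Γ(Y, U) (Localization.AtPrime q) := Module.Flat.trans Γ(Y, U) (Localization.AtPrime p) _
  haveI : Algebra.IsUnramifiedAt Γ(Y, U) q := Groth.L13.Purity.isUnramifiedAt_of_stalk f hU hV e hxV hu
  exact Groth.L13.Purity.exists_etale_nhd f hU hV e hxV (Groth.L13.Purity.isEtaleAt_of_flat_of_isUnramifiedAt q)

/-- a proper map which is an isomorphism over a local ring is one over a neighbourhood -/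
theorem exists_isIso_nhd {X Y : Scheme.{u}} (c : X ⟶ Y) [IsProper c] [IsLocallyNoetherian Y] (y : Y)
    [IsIso (pullback.snd c (Y.fromSpecStalk y))] :
    ∃ U : Y.Opens, y ∈ U ∧ IsIso (c ∣_ U) := by
  let i := Y.fromSpecStalk y
  let z₀ : ↥(pullback c i) := inv (pullback.snd c i) (closedPoint (Y.presheaf.stalk y))
  have hz₀ : pullback.snd c i z₀ = closedPoint (Y.presheaf.stalk y) := by
    show pullback.snd c i (inv (pullback.snd c i) _) = _
    rw [← Scheme.Hom.comp_apply, IsIso.inv_hom_id]; rfl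
  let x := pullback.fst c i z₀
  have hx : c x = y := by
    rw [← Scheme.Hom.comp_apply, pullback.condition, Scheme.Hom.comp_apply, hz₀]
    exact Scheme.fromSpecStalk_closedPoint
  have huniq : ∀ x' : X, c x' = y → x' = x := by
    intro x' hx'
    obtain ⟨w, hw⟩ : x' ∈ Set.range (pullback.fst c i) := by
      rw [Scheme.Pullback.range_fst]
      exact ⟨closedPoint (Y.presheaf.stalk y), (Scheme.fromSpecStalk_closedPoint).trans hx'.symm⟩
    have hw' : pullback.snd c i w = closedPoint (Y.presheaf.stalk y) := by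
      apply (Y.fromSpecStalk y).isEmbedding.injective
      rw [← Scheme.Hom.comp_apply, ← pullback.condition, Scheme.Hom.comp_apply, hw, hx']
      exact Scheme.fromSpecStalk_closedPoint.symm
    obtain rfl : w = z₀ := (pullback.snd c i).homeomorph.injective (hw'.trans hz₀.symm)
    exact hw.symm
  haveI : IsIso (pullback.snd c (Y.fromSpecStalk (c x))) := by rw [hx]; infer_instance
  haveI := Groth.L22.Pointwise.isIso_stalkMap_of_isIso_pullback c x
  have hb : Function.Bijective (c.stalkMap x).hom := ConcreteCategory.bijective_of_isIso (c.stalkMap x)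
  obtain ⟨W₁, hxW₁, hW₁⟩ := exists_etale_nhd_of_stalk c x (RingHom.Flat.of_bijective hb)
    (RingHom.FormallyUnramified.of_surjective hb.2)
  obtain ⟨W₂, hxW₂, hW₂⟩ := (Groth.L18.isLocalImmersionAt_iff c x).mp
    (Groth.L18.LocalStalk.isLocalImmersionAt_of_surjective c x hb.2)
  haveI := hW₁
  haveI := hW₂
  let W := W₁ ⊓ W₂
  have e1 : W.ι ≫ c = X.homOfLE inf_le_left ≫ W₁.ι ≫ c := by rw [Scheme.homOfLE_ι_assoc]
  have e2 : W.ι ≫ c = X.homOfLE inf_le_right ≫ W₂.ι ≫ c := by rw [Scheme.homOfLE_ι_assoc]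
  haveI : Etale (W.ι ≫ c) := by rw [e1]; infer_instance
  haveI : IsImmersion (W.ι ≫ c) := by rw [e2]; infer_instance
  haveI : IsOpenImmersion (W.ι ≫ c) := IsOpenImmersion.of_flat_of_mono _
  let U : Y.Opens := ⟨Set.range (W.ι ≫ c) ∩ (c '' (W : Set X)ᶜ)ᶜ,
    (W.ι ≫ c).isOpenEmbedding.isOpen_range.inter (c.isClosedMap _ W.2.isClosed_compl).isOpen_compl⟩
  have hyU : y ∈ U := by
    refine ⟨⟨⟨x, hxW₁, hxW₂⟩, ?_⟩, ?_⟩
    · rw [Scheme.Hom.comp_apply]; exact hx
    · rintro ⟨x', hx'W, hx'⟩
      rw [huniq x' hx'] at hx'W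
      exact hx'W ⟨hxW₁, hxW₂⟩
  have hle : c ⁻¹ᵁ U ≤ W := fun x' hx' => by_contra fun h => hx'.2 ⟨x', h, rfl⟩
  refine ⟨U, hyU, ?_⟩
  have e3 : (c ∣_ U) ≫ U.ι = X.homOfLE hle ≫ W.ι ≫ c := by
    rw [morphismRestrict_ι, Scheme.homOfLE_ι_assoc]
  haveI : IsOpenImmersion ((c ∣_ U) ≫ U.ι) := by rw [e3]; infer_instance
  haveI : IsOpenImmersion (c ∣_ U) := IsOpenImmersion.of_comp _ U.ι
  haveI : Surjective (c ∣_ U) := ⟨fun ⟨z, hz⟩ => by
    obtain ⟨w, hw⟩ := hz.1
    rw [Scheme.Hom.comp_apply] at hw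
    refine ⟨⟨W.ι w, ?_⟩, Subtype.ext ?_⟩
    · show c (W.ι w) ∈ U
      rw [hw]; exact hz
    · show ((c ∣_ U) _).1 = z
      refine Eq.trans ?_ hw
      exact morphismRestrict_base_coe c U _⟩
  exact (isIso_iff_isOpenImmersion_and_surjective _).2 ⟨inferInstance, inferInstance⟩

end Groth.L27.SteinComp
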