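import Groth.Agent.L27.SteinComp.Closed
import Groth.Agent.L27.SteinComp.Descend
import Groth.Agent.L27.SteinComp.Forward
import Groth.Agent.L05.Henselization.Strict
import Groth.Agent.L05.Henselization.StrictUniq
import Groth.Agent.L16.Connected.AppIso
import Groth.Agent.L16.Connected.Stein
import Groth.Agent.L27.PuncExtend.Dense
import Mathlib.FieldTheory.IsAlgClosed.Basic

/-! The Stein factorisation near a component of a fibre split over the algebraic closure. -/

set_option autoImplicit false
set_option linter.style.haveILetI false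
set_option backward.isDefEq.respectTransparency false
set_option backward.isDefEq.respectTransparency.types false

universe u

open CategoryTheory CategoryTheory.Limits AlgebraicGeometry TopologicalSpace IsLocalRing

namespace Groth.L27.SteinComp

variable {X X' S N : Scheme.{u}}

theorem backward [IsLocallyNoetherian S] (f : X ⟶ S) [IsProper f] (hO : ∀ U : S.Opens, Function.Bijective (f.app U).hom)
    (g : X' ⟶ X) [IsProper g] (τ : X' ⟶ N) [IsProper τ] [Surjective τ] (ν : N ⟶ S) [IsFinite ν] (hτ : τ ≫ ν = g ≫ f)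
    (hτO : ∀ U : N.Opens, IsIso (τ.app U))
    (c : X' ⟶ pullback f ν) (hc1 : c ≫ pullback.fst f ν = g) (hc2 : c ≫ pullback.snd f ν = τ)
    (s : S) (s' : N) (hs' : ν s' = s) (C : (pullback (g ≫ f) (S.fromSpecResidueField s)).Opens)
    (hC : ∀ x : ↥(pullback (g ≫ f) (S.fromSpecResidueField s)),
      x ∈ C ↔ τ (pullback.fst (g ≫ f) (S.fromSpecResidueField s) x) = s')
    (het : ∀ x : C, pullback.fst (g ≫ f) (S.fromSpecResidueField s) x.1 ∈ Pi1X.etaleLocus g)
    (hF : IsFinite (C.ι ≫ pullback.map (g ≫ f) (S.fromSpecResidueField s) f (S.fromSpecResidueField s) g (𝟙 _) (𝟙 S)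
        (Category.comp_id _) ((Category.comp_id _).trans (Category.id_comp _).symm)))
    (hE : Etale (C.ι ≫ pullback.map (g ≫ f) (S.fromSpecResidueField s) f (S.fromSpecResidueField s) g (𝟙 _) (𝟙 S)
        (Category.comp_id _) ((Category.comp_id _).trans (Category.id_comp _).symm)))
    (hsplit : Pi1.IsSplit ((FEt.restrict (pullback.fst (pullback.snd f (S.fromSpecResidueField s))
        (Spec.map (CommRingCat.ofHom (algebraMap (S.residueField s) (AlgebraicClosure (S.residueField s))))))).obj
      (MorphismProperty.Over.mk ⊤ (C.ι ≫ pullback.map (g ≫ f) (S.fromSpecResidueField s) f (S.fromSpecResidueField s) g (𝟙 _) (𝟙 S)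
        (Category.comp_id _) ((Category.comp_id _).trans (Category.id_comp _).symm)) ⟨hF, hE⟩))) :
    ∃ U' : N.Opens, s' ∈ U' ∧ Etale (U'.ι ≫ ν) ∧ IsIso (c ∣_ (pullback.snd f ν ⁻¹ᵁ U')) := by
  let σ := S.fromSpecResidueField s
  let u₀ : pullback (g ≫ f) σ ⟶ pullback f σ := pullback.map (g ≫ f) σ f σ g (𝟙 _) (𝟙 S)
    (Category.comp_id _) ((Category.comp_id _).trans (Category.id_comp _).symm)
  have hu1 : u₀ ≫ pullback.fst f σ = pullback.fst (g ≫ f) σ ≫ g := pullback.lift_fst _ _ _
  have hu2 : u₀ ≫ pullback.snd f σ = pullback.snd (g ≫ f) σ := (pullback.lift_snd _ _ _).trans (Category.comp_id _)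
  let u : C.toScheme ⟶ pullback f σ := C.ι ≫ u₀
  haveI : IsFinite u := hF
  haveI : Etale u := hE
  -- strict henselization
  obtain ⟨R, _, _, _, _, hR⟩ := Groth.L05.Henselization.exists_isStrictHenselization (S.presheaf.stalk s)
  haveI := hR
  haveI := hR.henselian
  haveI : IsSepClosed (ResidueField R) := hR.isSepClosure.sep_closed
  haveI : Algebra.IsSeparable (ResidueField (S.presheaf.stalk s)) (ResidueField R) := hR.isSepClosure.separable
  let φ : S.presheaf.stalk s ⟶ CommRingCat.of R := CommRingCat.ofHom (algebraMap (S.presheaf.stalk s) R)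
  haveI : IsLocalHom φ.hom := ‹IsLocalHom (algebraMap (S.presheaf.stalk s) R)›
  have hφ : φ.hom.Flat := RingHom.flat_algebraMap_iff.2 (Groth.L05.Henselization.flat_of_isStrictHenselization _ R)
  let m : Spec (CommRingCat.of R) ⟶ S := Spec.map φ ≫ S.fromSpecStalk s
  haveI : Flat (Spec.map φ) := (HasRingHomProperty.Spec_iff (P := @Flat)).2 hφ
  haveI : Flat (S.fromSpecStalk s) := Groth.L27.PuncExtend.flat_fromSpecStalk s
  haveI : Flat m := inferInstance
  obtain ⟨_, ⟨(U : S.Opens), hU, rfl⟩, hsU, -⟩ :=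
    S.isBasis_affineOpens.exists_subset_of_mem_open (Set.mem_univ s) isOpen_univ
  have hm : ∀ b, m b ∈ U := fun b => by
    have hb : S.fromSpecStalk s (Spec.map φ b) ∈ Set.range (S.fromSpecStalk s) := ⟨_, rfl⟩
    rw [Scheme.range_fromSpecStalk] at hb
    show S.fromSpecStalk s (Spec.map φ b) ∈ U
    exact (hb : S.fromSpecStalk s (Spec.map φ b) ⤳ s).mem_open U.2 hsU
  let fR := pullback.snd f m
  haveI : IsProper fR := MorphismProperty.pullback_snd _ _ inferInstance
  haveI : IsIso fR.appTop := isIso_appTop_bc f m hU hm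
    ((ConcreteCategory.isIso_iff_bijective _).2 (hO U)) (IsPullback.of_hasPullback f m)
  let gR : pullback (g ≫ f) m ⟶ pullback f m :=
    pullback.lift (pullback.fst (g ≫ f) m ≫ g) (pullback.snd (g ≫ f) m) (by rw [Category.assoc, pullback.condition])
  have hgR : gR ≫ fR = pullback.snd (g ≫ f) m := pullback.lift_snd _ _ _
  have sqg : IsPullback (pullback.fst (g ≫ f) m) gR g (pullback.fst f m) := by
    refine IsPullback.of_bot ?_ (pullback.lift_fst _ _ _).symm (IsPullback.of_hasPullback f m)
    rw [hgR]; exact IsPullback.of_hasPullback (g ≫ f) m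
  haveI : IsProper gR := MorphismProperty.of_isPullback sqg ‹IsProper g›
  -- the closed fibre
  let r := Spec.map (CommRingCat.ofHom (residue R))
  let σk : Spec (CommRingCat.of (ResidueField R)) ⟶ Spec (S.residueField s) :=
    Spec.map (CommRingCat.ofHom (ResidueField.map (algebraMap (S.presheaf.stalk s) R)))
  have hσk : σk ≫ σ = r ≫ m := by
    show σk ≫ Spec.map (CommRingCat.ofHom (residue (S.presheaf.stalk s))) ≫ S.fromSpecStalk s = _
    rw [← Category.assoc, ← Spec.map_comp]
    show _ = r ≫ Spec.map φ ≫ S.fromSpecStalk s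
    rw [← Category.assoc, ← Spec.map_comp]
    rfl
  let q := pullback.snd fR r
  let xs : pullback fR r ⟶ pullback f σ := pullback.lift (pullback.fst fR r ≫ pullback.fst f m) (q ≫ σk)
    (by rw [Category.assoc, pullback.condition, pullback.condition_assoc, Category.assoc, hσk])
  have hxs1 : xs ≫ pullback.fst f σ = pullback.fst fR r ≫ pullback.fst f m := pullback.lift_fst _ _ _
  have sqXs : IsPullback xs q (pullback.snd f σ) σk := by
    refine IsPullback.of_right ?_ (pullback.lift_snd _ _ _) (IsPullback.of_hasPullback f σ)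
    rw [hxs1, hσk]
    exact (IsPullback.of_hasPullback fR r).paste_horiz (IsPullback.of_hasPullback f m)
  let uk := pullback.snd u xs
  haveI : IsFinite uk := MorphismProperty.pullback_snd _ _ ‹IsFinite u›
  haveI : IsProper q := MorphismProperty.pullback_snd _ _ inferInstance
  haveI : Surjective σk := ⟨fun z => ⟨default, @Subsingleton.elim _ (inferInstanceAs (Subsingleton (PrimeSpectrum _))) _ _⟩⟩
  haveI : Surjective xs := MorphismProperty.of_isPullback sqXs.flip ‹Surjective σk›
  haveI : Nonempty ↥(pullback u xs) := by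
    obtain ⟨x', hx'⟩ := τ.surjective s'
    obtain ⟨x, hx⟩ : x' ∈ Set.range (pullback.fst (g ≫ f) σ) := by
      rw [Scheme.Pullback.range_fst, Set.mem_preimage, Scheme.range_fromSpecResidueField, ← hτ, Scheme.Hom.comp_apply, hx']
      exact hs'
    haveI : Surjective (pullback.fst u xs) := MorphismProperty.pullback_fst _ _ inferInstance
    obtain ⟨z, -⟩ := (pullback.fst u xs).surjective ⟨x, (hC x).2 (by rw [hx]; exact hx')⟩
    exact ⟨z⟩
  -- a geometric point
  letI : Algebra (S.residueField s) (ResidueField R) := (ResidueField.map (algebraMap (S.presheaf.stalk s) R)).toAlgebra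
  haveI : Algebra.IsSeparable (S.residueField s) (ResidueField R) := by
    have h := ‹Algebra.IsSeparable (ResidueField (S.presheaf.stalk s)) (ResidueField R)›
    exact Algebra.IsSeparable.of_equiv_equiv (A₁ := ResidueField (S.presheaf.stalk s)) (B₁ := ResidueField R)
      (RingEquiv.refl _) (RingEquiv.refl _) (RingHom.ext fun x => by obtain ⟨a, rfl⟩ := residue_surjective x; rfl)
  let ωk : ResidueField R →ₐ[S.residueField s] AlgebraicClosure (S.residueField s) := IsAlgClosed.lift
  let jk : Spec (CommRingCat.of (AlgebraicClosure (S.residueField s))) ⟶ Spec (CommRingCat.of (ResidueField R)) :=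
    Spec.map (CommRingCat.ofHom ωk.toRingHom)
  let j := Spec.map (CommRingCat.ofHom (algebraMap (S.residueField s) (AlgebraicClosure (S.residueField s))))
  have hjk : jk ≫ σk = j := by
    simp only [jk, σk, j, ← Spec.map_comp]
    congr 1
    ext x
    exact ωk.commutes x
  let rΩ := pullback.fst (pullback.snd f σ) j
  let bΩ := pullback.snd (pullback.snd f σ) j
  let a : pullback (pullback.snd f σ) j ⟶ pullback fR r :=
    sqXs.lift rΩ (bΩ ≫ jk) (by rw [Category.assoc, hjk]; exact pullback.condition)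
  have ha : a ≫ xs = rΩ := sqXs.lift_fst _ _ _
  have sqX : IsPullback a bΩ q jk := by
    refine IsPullback.of_right ?_ (sqXs.lift_snd _ _ _) sqXs
    rw [ha, hjk]; exact IsPullback.of_hasPullback (pullback.snd f σ) j
  haveI : ConnectedSpace ↥(pullback (pullback.snd f σ) j) := by
    haveI : GeometricallyConnected (f.fiberToSpecResidueField s) :=
      Groth.L16.Connected.geometricallyConnected_fiber_of_bijective f hU (hO U) hsU
    exact GeometricallyConnected.geometrically_connectedSpace (f := f.fiberToSpecResidueField s) _ _ _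
      (IsPullback.of_hasPullback (pullback.snd f σ) j)
  obtain ⟨ι, _, e₀, he⟩ := hsplit
  let CΩ := pullback u rΩ
  let a' : CΩ ⟶ pullback u xs := pullback.lift (pullback.fst u rΩ) (pullback.snd u rΩ ≫ a)
    (by rw [Category.assoc, ha]; exact pullback.condition)
  have sqC : IsPullback a' (pullback.snd u rΩ) uk a := by
    refine IsPullback.of_right ?_ (pullback.lift_snd _ _ _) (IsPullback.of_hasPullback u xs)
    rw [pullback.lift_fst, ha]; exact IsPullback.of_hasPullback u rΩ
  obtain ⟨D, hD, ⟨d₀, hd₀⟩, hDiso⟩ := exists_component_iso q uk jk sqX sqC (e₀ : CΩ ≅ _) he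
  -- transport into the closed fibre upstairs
  let gk : pullback gR (pullback.fst fR r) ⟶ pullback fR r := pullback.snd _ _
  let i' := pullback.fst gR (pullback.fst fR r)
  let xs' : pullback gR (pullback.fst fR r) ⟶ pullback (g ≫ f) σ :=
    pullback.lift (i' ≫ pullback.fst (g ≫ f) m) (gk ≫ q ≫ σk) (by
      rw [Category.assoc, pullback.condition, Category.assoc, Category.assoc, hσk, ← hgR, Category.assoc,
        pullback.condition_assoc, pullback.condition_assoc])
  have hxs' : xs' ≫ pullback.fst (g ≫ f) σ = i' ≫ pullback.fst (g ≫ f) m := pullback.lift_fst _ _ _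
  have hxs'2 : xs' ≫ pullback.snd (g ≫ f) σ = gk ≫ q ≫ σk := pullback.lift_snd _ _ _
  have sqXs' : IsPullback xs' (gk ≫ q) (pullback.snd (g ≫ f) σ) σk := by
    refine IsPullback.of_right ?_ (by rw [hxs'2, Category.assoc]) (IsPullback.of_hasPullback (g ≫ f) σ)
    rw [hxs', hσk]
    have h1 : IsPullback i' (gk ≫ q) (gR ≫ fR) r :=
      (IsPullback.of_hasPullback gR (pullback.fst fR r)).paste_vert (IsPullback.of_hasPullback fR r)
    rw [hgR] at h1
    exact h1.paste_horiz (IsPullback.of_hasPullback (g ≫ f) m)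
  let ck : pullback u xs ⟶ pullback gR (pullback.fst fR r) :=
    sqXs'.lift (pullback.fst u xs ≫ C.ι) (uk ≫ q) (by
      rw [Category.assoc, Category.assoc, ← hu2, ← sqXs.w, ← pullback.condition_assoc]
      simp only [u, Category.assoc])
  have hck : ck ≫ xs' = pullback.fst u xs ≫ C.ι := sqXs'.lift_fst _ _ _
  have hck2 : ck ≫ gk ≫ q = uk ≫ q := sqXs'.lift_snd _ _ _
  have hckg : ck ≫ gk = uk := by
    apply sqXs.hom_ext
    · apply pullback.hom_ext
      · rw [Category.assoc, Category.assoc, Category.assoc, hxs1]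
        have h1 : gk ≫ pullback.fst fR r = i' ≫ gR := pullback.condition.symm
        rw [reassoc_of% h1, pullback.lift_fst, ← reassoc_of% hxs', reassoc_of% hck, ← hu1]
        show _ = pullback.snd u xs ≫ _
        rw [← hxs1, ← pullback.condition_assoc]
        simp only [u, Category.assoc]
      · simp only [Category.assoc]
        rw [show xs ≫ pullback.snd f σ = q ≫ σk from sqXs.w, reassoc_of% hck2]
    · rw [Category.assoc]; exact hck2
  have sqCk : IsPullback (pullback.fst u xs) ck C.ι xs' := by
    refine IsPullback.of_bot ?_ hck.symm sqXs'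
    rw [hck2]
    have h1 : C.ι ≫ pullback.snd (g ≫ f) σ = u ≫ pullback.snd f σ := by simp only [u, Category.assoc, hu2]
    rw [h1]
    exact (IsPullback.of_hasPullback u xs).paste_vert sqXs
  haveI : IsClosedImmersion C.ι := by
    haveI : IsProper (C.ι ≫ u₀) := inferInstanceAs (IsProper u)
    haveI : IsProper (g ≫ f) := inferInstance
    haveI : IsSeparated u₀ := by
      haveI : IsSeparated (u₀ ≫ pullback.snd f σ) := by rw [hu2]; infer_instance
      exact IsSeparated.of_comp u₀ (pullback.snd f σ)
    haveI : IsProper C.ι := IsProper.of_comp C.ι u₀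
    exact IsClosedImmersion.of_isPreimmersion C.ι C.ι.isClosedMap.isClosed_range
  haveI : IsOpenImmersion ck := MorphismProperty.of_isPullback sqCk inferInstance
  haveI : IsClosedImmersion ck := MorphismProperty.of_isPullback sqCk inferInstance
  haveI : IsClosedImmersion D.ι := IsClosedImmersion.of_isPreimmersion _ (by rw [Scheme.Opens.range_ι]; exact hD)
  haveI : IsIso ((D.ι ≫ ck) ≫ gk) := by rw [Category.assoc, hckg]; exact hDiso
  have hpt : ∀ x : D.toScheme, pullback.fst (g ≫ f) m (i' ((D.ι ≫ ck) x)) =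
      pullback.fst (g ≫ f) σ (pullback.fst u xs (D.ι x)).1 := fun x => by
    rw [← Scheme.Hom.comp_apply, ← hxs', ← Scheme.Hom.comp_apply, Category.assoc, reassoc_of% hck]
    rfl
  obtain ⟨W, hW, hWiso, hWD⟩ := exists_clopen_lift fR gR g sqg (IsPullback.of_hasPullback gR (pullback.fst fR r))
    (D.ι ≫ ck) (fun x => by rw [hpt]; exact het _)
  haveI := hWiso
  -- the section
  have hWO : IsIso (W.ι ≫ pullback.snd (g ≫ f) m).appTop := by
    rw [← hgR, ← Category.assoc, Scheme.Hom.comp_appTop]
    infer_instance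
  obtain ⟨e, hef, hem, sqe⟩ := exists_section (g ≫ f) τ ν hτ hτO m hU hm W hW hWO
  haveI := hef
  have hecp : e (closedPoint R) = s' := by
    let d₁ : D.toScheme := ⟨d₀, hd₀⟩
    let w : W.toScheme := ⟨i' ((D.ι ≫ ck) d₁), hWD d₁⟩
    have h1 : (W.ι ≫ pullback.snd (g ≫ f) m) w = closedPoint R := by
      show pullback.snd (g ≫ f) m (i' ((D.ι ≫ ck) d₁)) = _
      rw [← hgR, Scheme.Hom.comp_apply]
      have h2 : gR (i' ((D.ι ≫ ck) d₁)) = pullback.fst fR r (gk ((D.ι ≫ ck) d₁)) := by
        rw [← Scheme.Hom.comp_apply, pullback.condition, Scheme.Hom.comp_apply]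
      rw [h2, ← Scheme.Hom.comp_apply (pullback.fst fR r) fR, pullback.condition, Scheme.Hom.comp_apply]
      exact IsLocalRing.PrimeSpectrum.comap_residue R _
    rw [← h1, ← Scheme.Hom.comp_apply, ← sqe.w, Scheme.Hom.comp_apply]
    show τ (pullback.fst (g ≫ f) m (i' ((D.ι ≫ ck) d₁))) = s'
    rw [hpt]
    exact (hC _).1 (pullback.fst u xs (D.ι d₁)).2
  obtain ⟨W₁, hW₁, hW₁et⟩ := exists_etale_nhd_of_section ν e s φ hem hφ
    (Groth.L05.Henselization.map_maximalIdeal_of_isStrictHenselization (S.presheaf.stalk s) R) (by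
      letI := (ResidueField.map φ.hom).toAlgebra
      exact ‹Algebra.IsSeparable (ResidueField (S.presheaf.stalk s)) (ResidueField R)›)
  haveI : IsProper c := by
    haveI : IsProper (c ≫ pullback.fst f ν) := by rw [hc1]; infer_instance
    exact IsProper.of_comp c (pullback.fst f ν)
  obtain ⟨U₂, hU₂, hU₂iso⟩ := exists_isIso_over f ν c e (hc2.symm ▸ sqe)
    (XR := pullback f m) (x₁ := pullback.fst f m) (x₂ := fR) (by rw [hem]; exact IsPullback.of_hasPullback f m) (W.ι ≫ gR)
    (by rw [hc1, Category.assoc, sqg.w.symm, Category.assoc])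
    (by rw [Category.assoc]; exact congrArg (W.ι ≫ ·) hgR) (closedPoint R)
  rw [hecp] at hW₁ hU₂
  let U' := W₁ ⊓ U₂
  refine ⟨U', ⟨hW₁, hU₂⟩, ?_, ?_⟩
  · haveI := hW₁et
    rw [← N.homOfLE_ι (inf_le_left : U' ≤ W₁), Category.assoc]
    infer_instance
  · let P := pullback.snd f ν ⁻¹ᵁ U₂
    let V := pullback.snd f ν ⁻¹ᵁ U'
    haveI : IsIso (c ∣_ P) := hU₂iso
    have hVP : V ≤ P := fun x hx => hx.2
    have hV : V = P.ι ''ᵁ (P.ι ⁻¹ᵁ V) := by
      rw [Scheme.Hom.image_preimage_eq_opensRange_inf, Scheme.Opens.opensRange_ι, inf_eq_right.2 hVP]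
    show MorphismProperty.isomorphisms Scheme.{u} (c ∣_ V)
    rw [hV, ← MorphismProperty.arrow_mk_iso_iff (MorphismProperty.isomorphisms Scheme.{u}) (morphismRestrictRestrict c P _)]
    exact (inferInstance : IsIso ((c ∣_ P) ∣_ (P.ι ⁻¹ᵁ V)))

end Groth.L27.SteinComp
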